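import Cfsg.Agent.H610.LD.RowJ2
import Cfsg.Agent.H635.CJ.JTwo
import Cfsg.Agent.H121.OZ.JTwo
import Cfsg.Agent.H300.HT.Tools
import Cfsg.Agent.H133.Ore.Tools
import Cfsg.Agent.H677.CodPrime

/-!
# S4933: `J2`, `p = 3` (helper300)

The column of the prime 7 (seven characters with values `± 1`): the degrees `1, 36, 225` (value `1`), `90, 160`
(value `-1`); two further characters of degrees `d, d + 12`.  If they are prime to 3, `d = 8`, impossible.  So one of the
two degrees has 3-part 3.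
-/

set_option autoImplicit false

namespace Cfsg.Agent.H300.HT.J2

open Cfsg Subgroup
open Cfsg.Agent.SporadicA.J2Hundred Cfsg.Agent.H221.DS.JTwoTen Cfsg.Agent.H954.LD Cfsg.Agent.Characters.Core
open Cfsg.Agent.H690.Spor.RankThree Cfsg.Agent.H610.LD

universe u

def chk (a : ℕ) : Bool :=
  !(Nat.beq (604800 % a) 0 && Nat.beq (604800 % (a + 12)) 0 && Nat.beq (a % 7) 1 && !(Nat.beq (a % 3) 0) &&
    !(Nat.beq a 1) && !(Nat.beq a 8))

theorem chk_all : (List.range 800).all (fun a => chk (a + 1)) = true := by decide +kernel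

theorem arith {a : ℕ} (ha : 0 < a) (hle : a < 800) (h1 : a ∣ 604800) (h2 : a + 12 ∣ 604800) (h7 : a % 7 = 1)
    (h3 : ¬ 3 ∣ a) (ha1 : a ≠ 1) (ha8 : a ≠ 8) : False := by
  have h := List.all_eq_true.1 chk_all (a - 1) (by rw [List.mem_range]; omega)
  rw [Nat.sub_add_cancel ha] at h
  have e1 : 604800 % a = 0 := Nat.mod_eq_zero_of_dvd h1
  have e2 : 604800 % (a + 12) = 0 := Nat.mod_eq_zero_of_dvd h2
  have e3 : ¬ a % 3 = 0 := fun h => h3 (Nat.dvd_of_mod_eq_zero h)
  simp [chk, e1, e2, h7, e3, ha1, ha8] at h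

/-- a character of degree `3 m`, `3 ∤ m` -/
theorem exists_one {S : Type u} [Group S] [Finite S] [IsSimpleGroup S] (h : Spor.IsoJ2 S) :
    ∃ χ : IrrCharacter S, 3 ∣ charDegree (χ : S → ℂ) ∧ ¬ 3 ^ 2 ∣ charDegree (χ : S → ℂ) := by
  classical
  have hcard : Nat.card S = 604800 := NotCT.Orders.j2 h
  have hnp : ¬ (Nat.card S).Prime := by rw [hcard]; norm_num
  have hna : ¬ IsMulCommutative S := H133.Ore.not_comm_of hnp
  obtain ⟨x, hx, hc⟩ := exists_seven h
  have := Fintype.ofFinite S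
  have hfi : Finite (IrrCharacter S) := finite_irr
  have := Fintype.ofFinite (IrrCharacter S)
  have hfact : Fact (Nat.Prime 7) := ⟨by norm_num⟩
  obtain ⟨P, W, -, -, -, hW⟩ := H653.Sieve.exists_col hna hcard hx hc 6 1 [(0, 0), (1, 1), (6, -1)] 0 false
    (by decide +kernel)
  -- the degrees
  have hmem : ∀ d : ℕ, d ∈ charDegrees G → ∃ θ : IrrCharacter S, charDegree (θ : S → ℂ) = d := by
    intro d hd
    obtain ⟨f⟩ := J2.HundredGens.J2_iso Cfsg.Agent.S1619.result.2.2.2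
    obtain ⟨e⟩ := h
    rw [← H424.DegTools.charDegrees_congr (e.trans f)] at hd
    exact hd
  obtain ⟨a, ha⟩ : ∃ θ : IrrCharacter S, charDegree (θ : S → ℂ) = 36 := H118.FD.Rows.mem_36 h
  obtain ⟨b, hb⟩ := hmem 90 H175.Eight.JTwo.deg_90
  obtain ⟨c, hc⟩ := hmem 225 H175.Eight.JTwo.deg_225
  obtain ⟨χ, hχ⟩ := hmem 160 H175.Eight.JTwo.deg_160
  let o : IrrCharacter S := ⟨1, isIrr_one⟩
  have ho : charDegree (o : S → ℂ) = 1 := by
    apply Cfsg.Agent.Blocks.Basic.charDegree_of_eq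
    show (1 : ℂ) = ((1 : ℕ) : ℂ)
    simp
  have hval : ∀ θ : IrrCharacter S, (charDegree (θ : S → ℂ) % 7, W θ) ∈ [(0, 0), (1, 1), (6, (-1 : ℤ))] := hW.mem
  have hw : ∀ θ : IrrCharacter S, (charDegree (θ : S → ℂ) % 7 = 0 ∧ W θ = 0) ∨ (charDegree (θ : S → ℂ) % 7 = 1 ∧ W θ = 1) ∨
      (charDegree (θ : S → ℂ) % 7 = 6 ∧ W θ = -1) := by
    intro θ
    have := hval θ
    simp only [List.mem_cons, List.not_mem_nil, or_false, Prod.mk.injEq] at this
    exact this
  have hwo : W o = 1 := by have := hw o; rw [ho] at this; omega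
  have hwa : W a = 1 := by have := hw a; rw [ha] at this; omega
  have hwb : W b = -1 := by have := hw b; rw [hb] at this; omega
  have hwc : W c = 1 := by have := hw c; rw [hc] at this; omega
  have hwx : W χ = -1 := by have := hw χ; rw [hχ] at this; omega
  have hsq : ∑ θ : IrrCharacter S, W θ * W θ = 7 := hW.sq
  have hdeg : ∑ θ : IrrCharacter S, W θ * (charDegree (θ : S → ℂ) : ℤ) = 0 := hW.deg
  have hdist : ∀ {θ η : IrrCharacter S} {m n : ℕ}, charDegree (θ : S → ℂ) = m → charDegree (η : S → ℂ) = n → m ≠ n →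
      θ ≠ η := by
    rintro θ η m n h1 h2 h3 rfl
    exact h3 (h1.symm.trans h2)
  let T : Finset (IrrCharacter S) := {o, a, b, c, χ}
  have hsplit : ∀ F : IrrCharacter S → ℤ, ∑ θ ∈ T, F θ = F o + F a + F b + F c + F χ := by
    intro F
    have e1 : o ∉ ({a, b, c, χ} : Finset (IrrCharacter S)) := by
      simp only [Finset.mem_insert, Finset.mem_singleton, not_or]
      exact ⟨hdist ho ha (by norm_num), hdist ho hb (by norm_num), hdist ho hc (by norm_num),
        hdist ho hχ (by norm_num)⟩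
    have e2 : a ∉ ({b, c, χ} : Finset (IrrCharacter S)) := by
      simp only [Finset.mem_insert, Finset.mem_singleton, not_or]
      exact ⟨hdist ha hb (by norm_num), hdist ha hc (by norm_num), hdist ha hχ (by norm_num)⟩
    have e3 : b ∉ ({c, χ} : Finset (IrrCharacter S)) := by
      simp only [Finset.mem_insert, Finset.mem_singleton, not_or]
      exact ⟨hdist hb hc (by norm_num), hdist hb hχ (by norm_num)⟩
    have e4 : c ∉ ({χ} : Finset (IrrCharacter S)) := by
      simp only [Finset.mem_singleton]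
      exact hdist hc hχ (by norm_num)
    show ∑ θ ∈ ({o, a, b, c, χ} : Finset (IrrCharacter S)), F θ = _
    rw [Finset.sum_insert e1, Finset.sum_insert e2, Finset.sum_insert e3, Finset.sum_insert e4, Finset.sum_singleton]
    ring
  have hs1 : ∑ θ ∈ Tᶜ, W θ * W θ = 2 := by
    have h1 := Finset.sum_add_sum_compl T (fun θ => W θ * W θ)
    rw [hsq, hsplit, hwo, hwa, hwb, hwc, hwx] at h1
    linarith
  have hs2 : ∑ θ ∈ Tᶜ, W θ * (charDegree (θ : S → ℂ) : ℤ) = -12 := by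
    have h1 := Finset.sum_add_sum_compl T (fun θ => W θ * (charDegree (θ : S → ℂ) : ℤ))
    rw [hdeg, hsplit, hwo, hwa, hwb, hwc, hwx, ho, ha, hb, hc, hχ] at h1
    push_cast at h1
    linarith
  have hsq1 : ∀ θ : IrrCharacter S, W θ * W θ = if W θ = 0 then 0 else 1 := by
    intro θ
    rcases hw θ with h1 | h1 | h1 <;> rw [h1.2] <;> simp
  -- exactly two further characters
  let U : Finset (IrrCharacter S) := Tᶜ.filter fun θ => W θ ≠ 0
  have hU : U.card = 2 := by
    have h1 : ∑ θ ∈ Tᶜ, W θ * W θ = (U.card : ℤ) := by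
      rw [Finset.card_filter]
      push_cast
      refine Finset.sum_congr rfl fun θ _ => ?_
      rw [hsq1]
      by_cases h0 : W θ = 0 <;> simp [h0]
    rw [hs1] at h1
    exact_mod_cast h1.symm
  obtain ⟨η, ζ, hne, hUe⟩ := Finset.card_eq_two.1 hU
  have hs3 : W η * (charDegree (η : S → ℂ) : ℤ) + W ζ * (charDegree (ζ : S → ℂ) : ℤ) = -12 := by
    rw [← hs2, ← Finset.sum_filter_of_ne (s := Tᶜ) (p := fun θ => W θ ≠ 0)]
    · show _ = ∑ θ ∈ U, _
      rw [hUe, Finset.sum_pair hne]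
    · intro θ _ h0 h1
      rw [h1, zero_mul] at h0
      exact h0 rfl
  have hηU : η ∈ U := by rw [hUe]; simp
  have hζU : ζ ∈ U := by rw [hUe]; simp
  have hη0 : W η ≠ 0 := (Finset.mem_filter.1 hηU).2
  have hζ0 : W ζ ≠ 0 := (Finset.mem_filter.1 hζU).2
  have hdvd : ∀ θ : IrrCharacter S, charDegree (θ : S → ℂ) ∣ 604800 := fun θ => by
    rw [← hcard]
    exact Cfsg.Agent.Blocks.Knorr.charDegree_dvd θ.2
  have hpos : ∀ θ : IrrCharacter S, 0 < charDegree (θ : S → ℂ) := fun θ =>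
    Cfsg.Agent.Blocks.Basic.charDegree_pos θ.2
  have hmin : ∀ θ : IrrCharacter S, charDegree (θ : S → ℂ) ≠ 1 → 9 ≤ charDegree (θ : S → ℂ) := fun θ hθ =>
    H133.Ore.minDeg_of_rep hna (H635.CJ.JTwo.minDeg h) θ fun h1 => hθ (by
      apply Cfsg.Agent.Blocks.Basic.charDegree_of_eq
      rw [h1]
      simp)
  have hone : ∀ θ : IrrCharacter S, charDegree (θ : S → ℂ) = 1 → θ = o := fun θ hθ =>
    Subtype.ext (H653.Sieve.one_of_deg hnp θ hθ)
  have hlt : ∀ θ : IrrCharacter S, charDegree (θ : S → ℂ) < 800 := by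
    intro θ
    have h1 := H677.CodPrime.charDegree_sq_lt θ
    rw [hcard] at h1
    by_contra h2
    have h3 : 800 ^ 2 ≤ charDegree (θ : S → ℂ) ^ 2 := Nat.pow_le_pow_left (not_lt.1 h2) 2
    omega
  have key : ∀ θ φ : IrrCharacter S, W θ = 1 → W φ = -1 → θ ∈ Tᶜ →
      W θ * (charDegree (θ : S → ℂ) : ℤ) + W φ * (charDegree (φ : S → ℂ) : ℤ) = -12 →
      ∃ χ : IrrCharacter S, 3 ∣ charDegree (χ : S → ℂ) ∧ ¬ 3 ^ 2 ∣ charDegree (χ : S → ℂ) := by
    intro θ φ h1 h2 hθT h3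
    rw [h1, h2] at h3
    have h4 : charDegree (φ : S → ℂ) = charDegree (θ : S → ℂ) + 12 := by omega
    have hθ1 : charDegree (θ : S → ℂ) ≠ 1 := by
      intro h5
      rw [hone θ h5] at hθT
      exact (Finset.mem_compl.1 hθT) (by simp [T])
    have h7 : charDegree (θ : S → ℂ) % 7 = 1 := by
      rcases hw θ with h | h | h <;> omega
    by_cases h9 : 3 ∣ charDegree (θ : S → ℂ)
    · by_cases h10 : 3 ^ 2 ∣ charDegree (θ : S → ℂ)
      · exact ⟨φ, by omega, by omega⟩
      · exact ⟨θ, h9, h10⟩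
    · exfalso
      exact arith (hpos θ) (hlt θ) (hdvd θ) (h4 ▸ hdvd φ) h7 h9 hθ1 (by have := hmin θ hθ1; omega)
  rcases hw η with h1 | h1 | h1
  · exact absurd h1.2 hη0
  · rcases hw ζ with h2 | h2 | h2
    · exact absurd h2.2 hζ0
    · rw [h1.2, h2.2] at hs3
      omega
    · exact key η ζ h1.2 h2.2 (Finset.mem_filter.1 hηU).1 hs3
  · rcases hw ζ with h2 | h2 | h2
    · exact absurd h2.2 hζ0
    · exact key ζ η h2.2 h1.2 (Finset.mem_filter.1 hζU).1 (by rw [← hs3]; ring)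
    · exfalso
      rw [h1.2, h2.2] at hs3
      have e1 := hpos η
      have e2 := hpos ζ
      have e3 : charDegree (η : S → ℂ) ≠ 1 := by omega
      have e4 := hmin η e3
      omega

theorem cls : ∀ j : Fin 21, 3 ∣ H121.OZ.JTwoCls.ov j ∨ H121.OZ.JTwoCls.ov j = 1 ∨
    ¬ 9 ∣ H121.OZ.JTwoCls.cv j := by decide +kernel

theorem cent_G (y : G) (hy : y ≠ 1) (h3 : ¬ 3 ∣ orderOf y) : ¬ 9 ∣ Nat.card (centralizer ({y} : Set G)) := by
  obtain ⟨j, -, h1, h2⟩ := H121.OZ.JTwoCls.type y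
  change Nat.card (centralizer ({y} : Set G)) = _ at h2
  rcases cls j with h | h | h
  · exact absurd (h1 ▸ h) h3
  · exact absurd (orderOf_eq_one_iff.1 (h1.trans h)) hy
  · rwa [h2]

/-- **`J2`, `p = 3`**: a character of height 1 in the principal block -/
theorem fact {S : Type u} [Group S] [Finite S] [IsSimpleGroup S] (h : Spor.IsoJ2 S) : Fact3 S := by
  intro M hM
  obtain ⟨χ, h1, h2⟩ := exists_one h
  refine ⟨χ, mem_of hM χ h1 h2 ?_ ?_, h1, h2⟩
  · rw [NotCT.Orders.j2 h]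
    decide +kernel
  · obtain ⟨f⟩ := J2.HundredGens.J2_iso Cfsg.Agent.S1619.result.2.2.2
    obtain ⟨e⟩ := h
    exact cent_congr (e.trans f) 9 cent_G

end Cfsg.Agent.H300.HT.J2
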